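import Cfsg.Agent.Lib.Helper11.Y532c1.D0
import Cfsg.Agent.Lib.Helper11.Y532c1.D1
import Cfsg.Agent.Lib.Helper11.Y532c1.D2
import Cfsg.Agent.Lib.Helper11.Y532c1.D3
import Cfsg.Agent.Lib.Helper11.Y532c1.D4
import Cfsg.Agent.Lib.Helper11.Words

set_option autoImplicit false
set_option maxRecDepth 100000

namespace Cfsg.Agent.Lib.Helper11.Y532c1

noncomputable def fc1_0 (i : ℕ) : ℕ := (Bool.rec (Bool.rec (Bool.rec (Bool.rec (fc0_0 i) (fc0_1 i) (Nat.ble 16 i)) (Bool.rec (fc0_2 i) (fc0_3 i) (Nat.ble 48 i)) (Nat.ble 32 i)) (Bool.rec (Bool.rec (fc0_4 i) (fc0_5 i) (Nat.ble 80 i)) (Bool.rec (fc0_6 i) (fc0_7 i) (Nat.ble 112 i)) (Nat.ble 96 i)) (Nat.ble 64 i)) (Bool.rec (Bool.rec (Bool.rec (fc0_8 i) (fc0_9 i) (Nat.ble 144 i)) (Bool.rec (fc0_10 i) (fc0_11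 i) (Nat.ble 176 i)) (Nat.ble 160 i)) (Bool.rec (Bool.rec (fc0_12 i) (fc0_13 i) (Nat.ble 208 i)) (Bool.rec (fc0_14 i) (fc0_15 i) (Nat.ble 240 i)) (Nat.ble 224 i)) (Nat.ble 192 i)) (Nat.ble 128 i))
noncomputable def fc1_1 (i : ℕ) : ℕ := (Bool.rec (Bool.rec (Bool.rec (Bool.rec (fc0_16 i) (fc0_17 i) (Nat.ble 272 i)) (Bool.rec (fc0_18 i) (fc0_19 i) (Nat.ble 304 i)) (Nat.ble 288 i)) (Bool.rec (Bool.rec (fc0_20 i) (fc0_21 i) (Nat.ble 336 i)) (Bool.rec (fc0_22 i) (fc0_23 i) (Nat.ble 368 i)) (Nat.ble 352 i)) (Nat.ble 320 i)) (Bool.rec (Bool.rec (Bool.rec (fc0_24 i) (fc0_25 i) (Nat.ble 400 i)) (Bool.rec (fc0_26 i) (fc0_27 i) (Nat.ble 432 i)) (Nat.ble 416 i)) (Bool.rec (Bool.rec (fc0_28 i) (fc0_29 i) (Nat.ble 464 i)) (Bool.rec (fc0_30 i) (fc0_31 i) (Nat.ble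 496 i)) (Nat.ble 480 i)) (Nat.ble 448 i)) (Nat.ble 384 i))
noncomputable def fc1_2 (i : ℕ) : ℕ := (Bool.rec (Bool.rec (Bool.rec (Bool.rec (fc0_32 i) (fc0_33 i) (Nat.ble 528 i)) (Bool.rec (fc0_34 i) (fc0_35 i) (Nat.ble 560 i)) (Nat.ble 544 i)) (Bool.rec (Bool.rec (fc0_36 i) (fc0_37 i) (Nat.ble 592 i)) (Bool.rec (fc0_38 i) (fc0_39 i) (Nat.ble 624 i)) (Nat.ble 608 i)) (Nat.ble 576 i)) (Bool.rec (Bool.rec (Bool.rec (fc0_40 i) (fc0_41 i) (Nat.ble 656 i)) (Bool.rec (fc0_42 i) (fc0_43 i) (Nat.ble 688 i)) (Nat.ble 672 i)) (Bool.rec (Bool.rec (fc0_44 i) (fc0_45 i) (Nat.ble 720 i)) (Bool.rec (fc0_46 i) (fc0_47 i) (Nat.ble 752 i)) (Nat.ble 736 i)) (Nat.ble 704 i)) (Nat.ble 640 i))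
noncomputable def fc1_3 (i : ℕ) : ℕ := (Bool.rec (Bool.rec (Bool.rec (Bool.rec (fc0_48 i) (fc0_49 i) (Nat.ble 784 i)) (Bool.rec (fc0_50 i) (fc0_51 i) (Nat.ble 816 i)) (Nat.ble 800 i)) (Bool.rec (Bool.rec (fc0_52 i) (fc0_53 i) (Nat.ble 848 i)) (Bool.rec (fc0_54 i) (fc0_55 i) (Nat.ble 880 i)) (Nat.ble 864 i)) (Nat.ble 832 i)) (Bool.rec (Bool.rec (Bool.rec (fc0_56 i) (fc0_57 i) (Nat.ble 912 i)) (Bool.rec (fc0_58 i) (fc0_59 i) (Nat.ble 944 i)) (Nat.ble 928 i)) (Bool.rec (Bool.rec (fc0_60 i) (fc0_61 i) (Nat.ble 976 i)) (Bool.rec (fc0_62 i) (fc0_63 i) (Nat.ble 1008 i)) (Nat.ble 992 i)) (Nat.ble 960 i)) (Nat.ble 896 i))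
noncomputable def fc1_4 (i : ℕ) : ℕ := (Bool.rec (Bool.rec (Bool.rec (Bool.rec (fc0_64 i) (fc0_65 i) (Nat.ble 1040 i)) (Bool.rec (fc0_66 i) (fc0_67 i) (Nat.ble 1072 i)) (Nat.ble 1056 i)) (Bool.rec (Bool.rec (fc0_68 i) (fc0_69 i) (Nat.ble 1104 i)) (Bool.rec (fc0_70 i) (fc0_71 i) (Nat.ble 1136 i)) (Nat.ble 1120 i)) (Nat.ble 1088 i)) (Bool.rec (Bool.rec (Bool.rec (fc0_72 i) (fc0_73 i) (Nat.ble 1168 i)) (Bool.rec (fc0_74 i) (fc0_75 i) (Nat.ble 1200 i)) (Nat.ble 1184 i)) (Bool.rec (Bool.rec (fc0_76 i) (fc0_77 i) (Nat.ble 1232 i)) (Bool.rec (fc0_78 i) (fc0_79 i) (Nat.ble 1264 i)) (Nat.ble 1248 i)) (Nat.ble 1216 i)) (Nat.ble 1152 i))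
noncomputable def fc1_5 (i : ℕ) : ℕ := (Bool.rec (Bool.rec (Bool.rec (fc0_80 i) (Bool.rec (fc0_81 i) (fc0_82 i) (Nat.ble 1312 i)) (Nat.ble 1296 i)) (Bool.rec (Bool.rec (fc0_83 i) (fc0_84 i) (Nat.ble 1344 i)) (Bool.rec (fc0_85 i) (fc0_86 i) (Nat.ble 1376 i)) (Nat.ble 1360 i)) (Nat.ble 1328 i)) (Bool.rec (Bool.rec (Bool.rec (fc0_87 i) (fc0_88 i) (Nat.ble 1408 i)) (Bool.rec (fc0_89 i) (fc0_90 i) (Nat.ble 1440 i)) (Nat.ble 1424 i)) (Bool.rec (Bool.rec (fc0_91 i) (fc0_92 i) (Nat.ble 1472 i)) (Bool.rec (fc0_93 i) (fc0_94 i) (Nat.ble 1504 i)) (Nat.ble 1488 i)) (Nat.ble 1456 i)) (Nat.ble 1392 i))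
noncomputable def fc2_0 (i : ℕ) : ℕ := (Bool.rec (Bool.rec (fc1_0 i) (Bool.rec (fc1_1 i) (fc1_2 i) (Nat.ble 512 i)) (Nat.ble 256 i)) (Bool.rec (fc1_3 i) (Bool.rec (fc1_4 i) (fc1_5 i) (Nat.ble 1280 i)) (Nat.ble 1024 i)) (Nat.ble 768 i))
noncomputable def fc (i : ℕ) : ℕ := fc2_0 i
noncomputable def sc1_0 (i : ℕ) : ℕ := (Bool.rec (Bool.rec (Bool.rec (Bool.rec (sc0_0 i) (sc0_1 i) (Nat.ble 16 i)) (Bool.rec (sc0_2 i) (sc0_3 i) (Nat.ble 48 i)) (Nat.ble 32 i)) (Bool.rec (Bool.rec (sc0_4 i) (sc0_5 i) (Nat.ble 80 i)) (Bool.rec (sc0_6 i) (sc0_7 i) (Nat.ble 112 i)) (Nat.ble 96 i)) (Nat.ble 64 i)) (Bool.rec (Bool.rec (Bool.rec (sc0_8 i) (sc0_9 i) (Nat.ble 144 i)) (Bool.rec (sc0_10 i) (sc0_11 i) (Nat.ble 176 i)) (Nat.ble 160 i)) (Bool.rec (Bool.rec (sc0_12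 i) (sc0_13 i) (Nat.ble 208 i)) (Bool.rec (sc0_14 i) (sc0_15 i) (Nat.ble 240 i)) (Nat.ble 224 i)) (Nat.ble 192 i)) (Nat.ble 128 i))
noncomputable def sc1_1 (i : ℕ) : ℕ := (Bool.rec (Bool.rec (Bool.rec (Bool.rec (sc0_16 i) (sc0_17 i) (Nat.ble 272 i)) (Bool.rec (sc0_18 i) (sc0_19 i) (Nat.ble 304 i)) (Nat.ble 288 i)) (Bool.rec (Bool.rec (sc0_20 i) (sc0_21 i) (Nat.ble 336 i)) (Bool.rec (sc0_22 i) (sc0_23 i) (Nat.ble 368 i)) (Nat.ble 352 i)) (Nat.ble 320 i)) (Bool.rec (Bool.rec (Bool.rec (sc0_24 i) (sc0_25 i) (Nat.ble 400 i)) (Bool.rec (sc0_26 i) (sc0_27 i) (Nat.ble 432 i)) (Nat.ble 416 i)) (Bool.rec (Bool.rec (sc0_28 i) (sc0_29 i) (Nat.ble 464 i)) (Bool.rec (sc0_30 i) (sc0_31 i) (Nat.ble 496 i)) (Nat.ble 480 i)) (Nat.ble 448 i)) (Nat.ble 384 i))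
noncomputable def sc1_2 (i : ℕ) : ℕ := (Bool.rec (Bool.rec (Bool.rec (Bool.rec (sc0_32 i) (sc0_33 i) (Nat.ble 528 i)) (Bool.rec (sc0_34 i) (sc0_35 i) (Nat.ble 560 i)) (Nat.ble 544 i)) (Bool.rec (Bool.rec (sc0_36 i) (sc0_37 i) (Nat.ble 592 i)) (Bool.rec (sc0_38 i) (sc0_39 i) (Nat.ble 624 i)) (Nat.ble 608 i)) (Nat.ble 576 i)) (Bool.rec (Bool.rec (Bool.rec (sc0_40 i) (sc0_41 i) (Nat.ble 656 i)) (Bool.rec (sc0_42 i) (sc0_43 i) (Nat.ble 688 i)) (Nat.ble 672 i)) (Bool.rec (Bool.rec (sc0_44 i) (sc0_45 i) (Nat.ble 720 i)) (Bool.rec (sc0_46 i) (sc0_47 i) (Nat.ble 752 i)) (Nat.ble 736 i)) (Nat.ble 704 i)) (Nat.ble 640 i))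
noncomputable def sc1_3 (i : ℕ) : ℕ := (Bool.rec (Bool.rec (Bool.rec (Bool.rec (sc0_48 i) (sc0_49 i) (Nat.ble 784 i)) (Bool.rec (sc0_50 i) (sc0_51 i) (Nat.ble 816 i)) (Nat.ble 800 i)) (Bool.rec (Bool.rec (sc0_52 i) (sc0_53 i) (Nat.ble 848 i)) (Bool.rec (sc0_54 i) (sc0_55 i) (Nat.ble 880 i)) (Nat.ble 864 i)) (Nat.ble 832 i)) (Bool.rec (Bool.rec (Bool.rec (sc0_56 i) (sc0_57 i) (Nat.ble 912 i)) (Bool.rec (sc0_58 i) (sc0_59 i) (Nat.ble 944 i)) (Nat.ble 928 i)) (Bool.rec (Bool.rec (sc0_60 i) (sc0_61 i) (Nat.ble 976 i)) (Bool.rec (sc0_62 i) (sc0_63 i) (Nat.ble 1008 i)) (Nat.ble 992 i)) (Nat.ble 960 i)) (Nat.ble 896 i))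
noncomputable def sc1_4 (i : ℕ) : ℕ := (Bool.rec (Bool.rec (Bool.rec (Bool.rec (sc0_64 i) (sc0_65 i) (Nat.ble 1040 i)) (Bool.rec (sc0_66 i) (sc0_67 i) (Nat.ble 1072 i)) (Nat.ble 1056 i)) (Bool.rec (Bool.rec (sc0_68 i) (sc0_69 i) (Nat.ble 1104 i)) (Bool.rec (sc0_70 i) (sc0_71 i) (Nat.ble 1136 i)) (Nat.ble 1120 i)) (Nat.ble 1088 i)) (Bool.rec (Bool.rec (Bool.rec (sc0_72 i) (sc0_73 i) (Nat.ble 1168 i)) (Bool.rec (sc0_74 i) (sc0_75 i) (Nat.ble 1200 i)) (Nat.ble 1184 i)) (Bool.rec (Bool.rec (sc0_76 i) (sc0_77 i) (Nat.ble 1232 i)) (Bool.rec (sc0_78 i) (sc0_79 i) (Nat.ble 1264 i)) (Nat.ble 1248 i)) (Nat.ble 1216 i)) (Nat.ble 1152 i))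
noncomputable def sc1_5 (i : ℕ) : ℕ := (Bool.rec (Bool.rec (Bool.rec (sc0_80 i) (Bool.rec (sc0_81 i) (sc0_82 i) (Nat.ble 1312 i)) (Nat.ble 1296 i)) (Bool.rec (Bool.rec (sc0_83 i) (sc0_84 i) (Nat.ble 1344 i)) (Bool.rec (sc0_85 i) (sc0_86 i) (Nat.ble 1376 i)) (Nat.ble 1360 i)) (Nat.ble 1328 i)) (Bool.rec (Bool.rec (Bool.rec (sc0_87 i) (sc0_88 i) (Nat.ble 1408 i)) (Bool.rec (sc0_89 i) (sc0_90 i) (Nat.ble 1440 i)) (Nat.ble 1424 i)) (Bool.rec (Bool.rec (sc0_91 i) (sc0_92 i) (Nat.ble 1472 i)) (Bool.rec (sc0_93 i) (sc0_94 i) (Nat.ble 1504 i)) (Nat.ble 1488 i)) (Nat.ble 1456 i)) (Nat.ble 1392 i))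
noncomputable def sc2_0 (i : ℕ) : ℕ := (Bool.rec (Bool.rec (sc1_0 i) (Bool.rec (sc1_1 i) (sc1_2 i) (Nat.ble 512 i)) (Nat.ble 256 i)) (Bool.rec (sc1_3 i) (Bool.rec (sc1_4 i) (sc1_5 i) (Nat.ble 1280 i)) (Nat.ble 1024 i)) (Nat.ble 768 i))
noncomputable def sc (i : ℕ) : ℕ := sc2_0 i
noncomputable def nc1_0 (i : ℕ) : ℕ := (Bool.rec (Bool.rec (nc0_0 i) (nc0_1 i) (Nat.ble 16 i)) (Bool.rec (nc0_2 i) (nc0_3 i) (Nat.ble 48 i)) (Nat.ble 32 i))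
noncomputable def nc (i : ℕ) : ℕ := nc1_0 i
noncomputable def cc1_0 (i : ℕ) : ℕ := (Bool.rec (Bool.rec (Bool.rec (Bool.rec (cc0_0 i) (cc0_1 i) (Nat.ble 16 i)) (Bool.rec (cc0_2 i) (cc0_3 i) (Nat.ble 48 i)) (Nat.ble 32 i)) (Bool.rec (Bool.rec (cc0_4 i) (cc0_5 i) (Nat.ble 80 i)) (Bool.rec (cc0_6 i) (cc0_7 i) (Nat.ble 112 i)) (Nat.ble 96 i)) (Nat.ble 64 i)) (Bool.rec (Bool.rec (Bool.rec (cc0_8 i) (cc0_9 i) (Nat.ble 144 i)) (Bool.rec (cc0_10 i) (cc0_11 i) (Nat.ble 176 i)) (Nat.ble 160 i)) (Bool.rec (Bool.rec (cc0_12 i) (cc0_13 i) (Nat.ble 208 i)) (Bool.rec (cc0_14 i) (cc0_15 i) (Nat.ble 240 i)) (Nat.ble 224 i)) (Nat.ble 192 i)) (Nat.ble 128 i))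
noncomputable def cc1_1 (i : ℕ) : ℕ := (Bool.rec (Bool.rec (Bool.rec (Bool.rec (cc0_16 i) (cc0_17 i) (Nat.ble 272 i)) (Bool.rec (cc0_18 i) (cc0_19 i) (Nat.ble 304 i)) (Nat.ble 288 i)) (Bool.rec (Bool.rec (cc0_20 i) (cc0_21 i) (Nat.ble 336 i)) (Bool.rec (cc0_22 i) (cc0_23 i) (Nat.ble 368 i)) (Nat.ble 352 i)) (Nat.ble 320 i)) (Bool.rec (Bool.rec (Bool.rec (cc0_24 i) (cc0_25 i) (Nat.ble 400 i)) (Bool.rec (cc0_26 i) (cc0_27 i) (Nat.ble 432 i)) (Nat.ble 416 i)) (Bool.rec (Bool.rec (cc0_28 i) (cc0_29 i) (Nat.ble 464 i)) (Bool.rec (cc0_30 i) (cc0_31 i) (Nat.ble 496 i)) (Nat.ble 480 i)) (Nat.ble 448 i)) (Nat.ble 384 i))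
noncomputable def cc1_2 (i : ℕ) : ℕ := (Bool.rec (Bool.rec (Bool.rec (Bool.rec (cc0_32 i) (cc0_33 i) (Nat.ble 528 i)) (Bool.rec (cc0_34 i) (cc0_35 i) (Nat.ble 560 i)) (Nat.ble 544 i)) (Bool.rec (Bool.rec (cc0_36 i) (cc0_37 i) (Nat.ble 592 i)) (Bool.rec (cc0_38 i) (cc0_39 i) (Nat.ble 624 i)) (Nat.ble 608 i)) (Nat.ble 576 i)) (Bool.rec (Bool.rec (Bool.rec (cc0_40 i) (cc0_41 i) (Nat.ble 656 i)) (Bool.rec (cc0_42 i) (cc0_43 i) (Nat.ble 688 i)) (Nat.ble 672 i)) (Bool.rec (Bool.rec (cc0_44 i) (cc0_45 i) (Nat.ble 720 i)) (Bool.rec (cc0_46 i) (cc0_47 i) (Nat.ble 752 i)) (Nat.ble 736 i)) (Nat.ble 704 i)) (Nat.ble 640 i))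
noncomputable def cc1_3 (i : ℕ) : ℕ := (Bool.rec (Bool.rec (cc0_48 i) (Bool.rec (cc0_49 i) (cc0_50 i) (Nat.ble 800 i)) (Nat.ble 784 i)) (Bool.rec (Bool.rec (cc0_51 i) (cc0_52 i) (Nat.ble 832 i)) (Bool.rec (cc0_53 i) (cc0_54 i) (Nat.ble 864 i)) (Nat.ble 848 i)) (Nat.ble 816 i))
noncomputable def cc2_0 (i : ℕ) : ℕ := (Bool.rec (Bool.rec (cc1_0 i) (cc1_1 i) (Nat.ble 256 i)) (Bool.rec (cc1_2 i) (cc1_3 i) (Nat.ble 768 i)) (Nat.ble 512 i))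
noncomputable def cc (i : ℕ) : ℕ := cc2_0 i

noncomputable def INV : ℕ := 325702574508064
def isH (l : ℕ) : Bool := decide (l ∈ [1, 2, 3, 4, 5, 6, 8, 9])
def gens : List ℕ := [1, 2, 3, 4, 5, 6, 7, 8, 9]
def rt : RT := (.node 23 (.node 11 (.node 6 (.node 3 (.node 2 (.node 1 (.leaf 8 0 [8, 8]) (.leaf 18 0 [1, 9, 1, 9])) (.leaf 53 0 [5, 8, 5, 8])) (.node 5 (.node 4 (.leaf 62 0 [6, 8, 6, 8]) (.leaf 26 0 [2, 8, 2, 8])) (.leaf 63 0 [6, 9, 6, 9]))) (.node 9 (.node 8 (.node 7 (.leaf 54 0 [5, 9, 5, 9]) (.leaf 71 0 [7, 8, 7, 8])) (.leaf 9 0 [9, 9])) (.node 10 (.leaf 35 0 [3, 8, 3, 8]) (.leaf 27 0 [2, 9, 2, 9])))) (.node 17 (.node 14 (.node 13 (.node 12 (.leaf 72 0 [7, 9, 7, 9]) (.leaf 36 0 [3, 9, 3, 9])) (.leaf 44 0 [4, 8, 4, 8])) (.node 16 (.node 15 (.leaf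 45 0 [4, 9, 4, 9]) (.leaf 1 0 [1, 1])) (.leaf 81 1 [9, 8, 9, 8, 9, 8]))) (.node 20 (.node 19 (.node 18 (.leaf 16 1 [7, 1, 7, 1]) (.leaf 53 1 [8, 5, 8, 5])) (.leaf 12 1 [3, 1, 3, 1])) (.node 22 (.node 21 (.leaf 5 0 [5, 5]) (.leaf 17 1 [8, 1, 8, 1, 8, 1])) (.leaf 23 0 [2, 5, 2, 5]))))) (.node 41 (.node 31 (.node 27 (.node 25 (.node 24 (.leaf 4 0 [4, 4]) (.leaf 13 1 [4, 1, 4, 1])) (.node 26 (.leaf 32 0 [3, 5, 3, 5]) (.leaf 52 1 [7, 5, 7, 5]))) (.node 29 (.node 28 (.leaf 15 1 [6, 1, 6, 1]) (.leaf 41 0 [4, 5, 4, 5])) (.node 30 (.leaf 2 0 [2, 2]) (.leaf 3 0 [3, 3])))) (.node 36 (.node 34 (.node 33 (.node 32 (.leaf 18 1 [9, 1, 9, 1]) (.leaf 6 0 [6, 6])) (.leaf 54 1 [9, 5, 9, 5])) (.node 35 (.leaf 14 0 [1, 5, 1, 5, 1, 5]) (.leaf 15 0 [1, 6, 1, 6])))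 (.node 39 (.node 38 (.node 37 (.leaf 24 0 [2, 6, 2, 6]) (.leaf 33 0 [3, 6, 3, 6])) (.leaf 42 0 [4, 6, 4, 6])) (.node 40 (.leaf 11 0 [1, 2, 1, 2, 1, 2]) (.leaf 51 0 [5, 6, 5, 6, 5, 6]))))) (.node 56 (.node 48 (.node 45 (.node 43 (.node 42 (.leaf 14 1 [5, 1, 5, 1, 5, 1]) (.leaf 25 1 [7, 2, 7, 2])) (.node 44 (.leaf 62 1 [8, 6, 8, 6]) (.leaf 17 0 [1, 8, 1, 8, 1, 8]))) (.node 47 (.node 46 (.leaf 26 1 [8, 2, 8, 2]) (.leaf 63 1 [9, 6, 9, 6])) (.leaf 24 1 [6, 2, 6, 2]))) (.node 52 (.node 50 (.node 49 (.leaf 22 1 [4, 2, 4, 2]) (.leaf 7 0 [7, 7])) (.node 51 (.leaf 51 1 [6, 5, 6, 5, 6, 5]) (.leaf 52 0 [5, 7, 5, 7]))) (.node 54 (.node 53 (.leaf 16 0 [1, 7, 1, 7]) (.leaf 11 1 [2, 1, 2, 1, 2, 1])) (.node 55 (.leaf 25 0 [2, 7, 2, 7]) (.leaf 81 0 [8, 9, 8, 9,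 8, 9]))))) (.node 66 (.node 61 (.node 59 (.node 58 (.node 57 (.leaf 34 0 [3, 7, 3, 7]) (.leaf 27 1 [9, 2, 9, 2])) (.leaf 43 0 [4, 7, 4, 7])) (.node 60 (.leaf 12 0 [1, 3, 1, 3]) (.leaf 35 1 [8, 3, 8, 3]))) (.node 64 (.node 63 (.node 62 (.leaf 34 1 [7, 3, 7, 3]) (.leaf 21 0 [2, 3, 2, 3, 2, 3])) (.leaf 61 0 [6, 7, 6, 7, 6, 7])) (.node 65 (.leaf 33 1 [6, 3, 6, 3]) (.leaf 72 1 [9, 7, 9, 7])))) (.node 73 (.node 70 (.node 68 (.node 67 (.leaf 23 1 [5, 2, 5, 2]) (.leaf 71 1 [8, 7, 8, 7])) (.node 69 (.leaf 44 1 [8, 4, 8, 4]) (.leaf 43 1 [7, 4, 7, 4]))) (.node 72 (.node 71 (.leaf 31 0 [3, 4, 3, 4, 3, 4]) (.leaf 42 1 [6, 4, 6, 4])) (.leaf 22 0 [2, 4, 2, 4]))) (.node 77 (.node 75 (.node 74 (.leaf 13 0 [1, 4, 1, 4]) (.leaf 61 1 [7, 6, 7, 6, 7, 6])) (.node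 76 (.leaf 36 1 [9, 3, 9, 3]) (.leaf 0 0 []))) (.node 80 (.node 79 (.node 78 (.leaf 32 1 [5, 3, 5, 3]) (.leaf 45 1 [9, 4, 9, 4])) (.leaf 21 1 [3, 2, 3, 2, 3, 2])) (.node 81 (.leaf 41 1 [5, 4, 5, 4]) (.node 82 (.leaf 31 1 [4, 3, 4, 3, 4, 3]) (.node 85 (.node 84 (.node 83 (.leaf 91 4 [5, 6, 1, 8, 9, 1, 2, 3, 1, 5, 6, 1, 8, 9, 1, 2, 3, 1, 5, 6, 1, 8, 9, 1, 2, 3, 1, 5, 6, 1, 8, 9, 1, 2, 3, 1, 5, 6, 1, 8, 9, 1, 2, 3, 1, 5, 6, 1, 8, 9, 1, 2, 3, 1, 5, 6, 1, 8, 9, 1, 2, 3, 1, 5, 6, 1, 8, 9, 1, 2, 3, 1, 5, 6, 1, 8, 9, 1, 2, 3, 1, 5, 6, 1, 8, 9, 1, 2, 3, 1]) (.leaf 91 3 [1, 5, 6, 1, 8, 9, 1, 2, 3, 1, 5, 6, 1, 8, 9, 1, 2, 3, 1, 5, 6, 1, 8, 9, 1, 2, 3, 1, 5, 6, 1, 8, 9, 1, 2, 3, 1, 5, 6, 1, 8, 9, 1, 2, 3, 1, 5, 6, 1, 8, 9, 1, 2, 3, 1, 5, 6, 1, 8, 9, 1, 2,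 3, 1, 5, 6, 1, 8, 9, 1, 2, 3, 1, 5, 6, 1, 8, 9, 1, 2, 3, 1, 5, 6, 1, 8, 9, 1, 2, 3])) (.leaf 91 2 [3, 1, 5, 6, 1, 8, 9, 1, 2, 3, 1, 5, 6, 1, 8, 9, 1, 2, 3, 1, 5, 6, 1, 8, 9, 1, 2, 3, 1, 5, 6, 1, 8, 9, 1, 2, 3, 1, 5, 6, 1, 8, 9, 1, 2, 3, 1, 5, 6, 1, 8, 9, 1, 2, 3, 1, 5, 6, 1, 8, 9, 1, 2, 3, 1, 5, 6, 1, 8, 9, 1, 2, 3, 1, 5, 6, 1, 8, 9, 1, 2, 3, 1, 5, 6, 1, 8, 9, 1, 2])) (.node 88 (.node 87 (.node 86 (.leaf 91 1 [2, 3, 1, 5, 6, 1, 8, 9, 1, 2, 3, 1, 5, 6, 1, 8, 9, 1, 2, 3, 1, 5, 6, 1, 8, 9, 1, 2, 3, 1, 5, 6, 1, 8, 9, 1, 2, 3, 1, 5, 6, 1, 8, 9, 1, 2, 3, 1, 5, 6, 1, 8, 9, 1, 2, 3, 1, 5, 6, 1, 8, 9, 1, 2, 3, 1, 5, 6, 1, 8, 9, 1, 2, 3, 1, 5, 6, 1, 8, 9, 1, 2, 3, 1, 5, 6, 1, 8, 9, 1]) (.leaf 91 6 [1, 8, 9, 1, 2, 3, 1, 5, 6, 1, 8, 9, 1, 2, 3, 1, 5, 6,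 1, 8, 9, 1, 2, 3, 1, 5, 6, 1, 8, 9, 1, 2, 3, 1, 5, 6, 1, 8, 9, 1, 2, 3, 1, 5, 6, 1, 8, 9, 1, 2, 3, 1, 5, 6, 1, 8, 9, 1, 2, 3, 1, 5, 6, 1, 8, 9, 1, 2, 3, 1, 5, 6, 1, 8, 9, 1, 2, 3, 1, 5, 6, 1, 8, 9, 1, 2, 3, 1, 5, 6])) (.leaf 91 5 [6, 1, 8, 9, 1, 2, 3, 1, 5, 6, 1, 8, 9, 1, 2, 3, 1, 5, 6, 1, 8, 9, 1, 2, 3, 1, 5, 6, 1, 8, 9, 1, 2, 3, 1, 5, 6, 1, 8, 9, 1, 2, 3, 1, 5, 6, 1, 8, 9, 1, 2, 3, 1, 5, 6, 1, 8, 9, 1, 2, 3, 1, 5, 6, 1, 8, 9, 1, 2, 3, 1, 5, 6, 1, 8, 9, 1, 2, 3, 1, 5, 6, 1, 8, 9, 1, 2, 3, 1, 5])) (.node 90 (.node 89 (.leaf 91 7 [8, 9, 1, 2, 3, 1, 5, 6, 1, 8, 9, 1, 2, 3, 1, 5, 6, 1, 8, 9, 1, 2, 3, 1, 5, 6, 1, 8, 9, 1, 2, 3, 1, 5, 6, 1, 8, 9, 1, 2, 3, 1, 5, 6, 1, 8, 9, 1, 2, 3, 1, 5, 6, 1, 8, 9, 1, 2, 3, 1, 5, 6, 1, 8, 9, 1, 2, 3, 1, 5, 6, 1,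 8, 9, 1, 2, 3, 1, 5, 6, 1, 8, 9, 1, 2, 3, 1, 5, 6, 1]) (.leaf 91 8 [9, 1, 2, 3, 1, 5, 6, 1, 8, 9, 1, 2, 3, 1, 5, 6, 1, 8, 9, 1, 2, 3, 1, 5, 6, 1, 8, 9, 1, 2, 3, 1, 5, 6, 1, 8, 9, 1, 2, 3, 1, 5, 6, 1, 8, 9, 1, 2, 3, 1, 5, 6, 1, 8, 9, 1, 2, 3, 1, 5, 6, 1, 8, 9, 1, 2, 3, 1, 5, 6, 1, 8, 9, 1, 2, 3, 1, 5, 6, 1, 8, 9, 1, 2, 3, 1, 5, 6, 1, 8])) (.leaf 91 0 [1, 2, 3, 1, 5, 6, 1, 8, 9, 1, 2, 3, 1, 5, 6, 1, 8, 9, 1, 2, 3, 1, 5, 6, 1, 8, 9, 1, 2, 3, 1, 5, 6, 1, 8, 9, 1, 2, 3, 1, 5, 6, 1, 8, 9, 1, 2, 3, 1, 5, 6, 1, 8, 9, 1, 2, 3, 1, 5, 6, 1, 8, 9, 1, 2, 3, 1, 5, 6, 1, 8, 9, 1, 2, 3, 1, 5, 6, 1, 8, 9, 1, 2, 3, 1, 5, 6, 1, 8, 9])))))))))))))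


end Cfsg.Agent.Lib.Helper11.Y532c1
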